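import Mathlib
import Groth.Agent.H24.NilFree

/-!
# A finitely presented module over a local algebra, flat over the base and free modulo an ideal
of the base, is free
-/

set_option autoImplicit false
set_option linter.style.haveILetI false
universe u
open TensorProduct Function

namespace Groth.Agent.H70.FibProj

/-- Let `A → B'` be a ring map with `B'` local, `𝔭` an ideal of `A` with `𝔭B' ⊆ 𝔪_{B'}`, and `N` a
finitely presented `B'`-module, flat over `A`, such that `N/𝔭N` is free over `B'/𝔭B'`. Then `N` is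
free over `B'`. -/
theorem free_of_flat_of_free_quotient_local {A B' N : Type u} [CommRing A] [CommRing B']
    [IsLocalRing B'] [Algebra A B'] [AddCommGroup N] [Module B' N] [Module A N]
    [IsScalarTower A B' N] [Module.FinitePresentation B' N] [Module.Flat A N]
    (𝔭 : Ideal A) (h𝔭 : 𝔭.map (algebraMap A B') ≤ IsLocalRing.maximalIdeal B')
    [Module.Free (B' ⧸ 𝔭.map (algebraMap A B')) ((B' ⧸ 𝔭.map (algebraMap A B')) ⊗[B'] N)] :
    Module.Free B' N := by
  classical
  set I : Ideal B' := 𝔭.map (algebraMap A B') with hI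
  have hIjac : I ≤ Ideal.jacobson ⊥ := by
    rw [IsLocalRing.jacobson_eq_maximalIdeal ⊥ bot_ne_top]
    exact h𝔭
  let ι := Module.Free.ChooseBasisIndex (B' ⧸ I) ((B' ⧸ I) ⊗[B'] N)
  let b : Module.Basis ι (B' ⧸ I) ((B' ⧸ I) ⊗[B'] N) := Module.Free.chooseBasis _ _
  haveI : Fintype ι := inferInstance
  have hmk : Surjective (TensorProduct.mk B' (B' ⧸ I) N 1) :=
    TensorProduct.mk_surjective B' N (B' ⧸ I) Ideal.Quotient.mk_surjective
  choose x hx using fun i => hmk (b i)
  have hx' : ∀ i, (1 : B' ⧸ I) ⊗ₜ[B'] x i = b i := hx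
  let ψ : (ι →₀ B') →ₗ[B'] N := Finsupp.linearCombination B' x
  have hker1 : ∀ y : N, (1 : B' ⧸ I) ⊗ₜ[B'] y = 0 → y ∈ I • (⊤ : Submodule B' N) := by
    intro y hy
    have := congrArg (TensorProduct.quotTensorEquivQuotSMul N I) hy
    rw [← map_one (Ideal.Quotient.mk I), TensorProduct.quotTensorEquivQuotSMul_mk_tmul,
      map_zero, one_smul, Submodule.Quotient.mk_eq_zero] at this
    exact this
  have hcomb : ∀ a : ι →₀ B', (1 : B' ⧸ I) ⊗ₜ[B'] ψ a =
      b.repr.symm (a.mapRange (Ideal.Quotient.mk I) (map_zero _)) := by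
    intro a
    induction a using Finsupp.induction_linear with
    | zero => simp
    | add f g hf hg =>
      rw [map_add, TensorProduct.tmul_add, hf, hg,
        Finsupp.mapRange_add (by intro x y; exact map_add _ x y), map_add]
    | single i r =>
      rw [Finsupp.mapRange_single, Module.Basis.repr_symm_single]
      simp only [ψ, Finsupp.linearCombination_single]
      rw [TensorProduct.tmul_smul, hx', ← Ideal.Quotient.algebraMap_eq, algebraMap_smul]
  -- surjectivity by Nakayama
  have hsurj : Surjective ψ := by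
    rw [← LinearMap.range_eq_top, eq_top_iff]
    refine Submodule.le_of_le_smul_of_le_jacobson_bot (I := I)
      (Module.Finite.fg_top (R := B') (M := N)) hIjac ?_
    intro y _
    let c := b.repr ((1 : B' ⧸ I) ⊗ₜ[B'] y)
    obtain ⟨a, ha⟩ : ∃ a : ι →₀ B', a.mapRange (Ideal.Quotient.mk I) (map_zero _) = c :=
      Finsupp.mapRange_surjective _ (map_zero _) Ideal.Quotient.mk_surjective c
    have h0 : (1 : B' ⧸ I) ⊗ₜ[B'] (y - ψ a) = 0 := by
      rw [TensorProduct.tmul_sub, hcomb, ha]
      simp [c]
    have hmem := hker1 _ h0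
    have : y = ψ a + (y - ψ a) := by abel
    rw [this]
    exact Submodule.add_mem_sup (LinearMap.mem_range_self ψ a) hmem
  -- the kernel
  have hKfg : (LinearMap.ker ψ).FG := Module.FinitePresentation.fg_ker ψ hsurj
  have hkerI : LinearMap.ker ψ ≤ I • (⊤ : Submodule B' (ι →₀ B')) := by
    intro a ha
    have h0 : b.repr.symm (a.mapRange (Ideal.Quotient.mk I) (map_zero _)) = 0 := by
      rw [← hcomb, LinearMap.mem_ker.mp ha, TensorProduct.tmul_zero]
    have h1 : a.mapRange (Ideal.Quotient.mk I) (map_zero _) = 0 :=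
      (LinearEquiv.map_eq_zero_iff b.repr.symm).mp h0
    have hmemI : ∀ i, a i ∈ I := by
      intro i
      have := DFunLike.congr_fun h1 i
      rw [Finsupp.mapRange_apply, Finsupp.zero_apply, Ideal.Quotient.eq_zero_iff_mem] at this
      exact this
    rw [← Finsupp.sum_single a]
    refine Submodule.sum_mem _ fun i _ => ?_
    have : Finsupp.single i (a i) = (a i) • (Finsupp.single i (1 : B') : ι →₀ B') := by
      rw [Finsupp.smul_single, smul_eq_mul, mul_one]
    rw [this]
    exact Submodule.smul_mem_smul (hmemI i) Submodule.mem_top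
  have hKle : LinearMap.ker ψ ≤ I • LinearMap.ker ψ := by
    intro a ha
    have h1 : a ∈ 𝔭 • (⊤ : Submodule A (ι →₀ B')) := by
      have := hkerI ha
      have h2 : a ∈ (I • (⊤ : Submodule B' (ι →₀ B'))).restrictScalars A := this
      rw [hI, Ideal.smul_restrictScalars] at h2
      simpa using h2
    have h3 : a ∈ 𝔭 • LinearMap.ker (ψ.restrictScalars A) :=
      Groth.Agent.H24.mem_smul_ker_of_flat (ψ.restrictScalars A) hsurj 𝔭 a
        (by simpa using ha) h1
    have h4 : 𝔭 • LinearMap.ker (ψ.restrictScalars A) =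
        (I • LinearMap.ker ψ).restrictScalars A := by
      rw [hI, Ideal.smul_restrictScalars, LinearMap.ker_restrictScalars]
    rw [h4] at h3
    exact h3
  have hK0 : LinearMap.ker ψ = ⊥ :=
    Submodule.eq_bot_of_le_smul_of_le_jacobson_bot I _ hKfg hKle hIjac
  exact Module.Free.of_equiv
    (LinearEquiv.ofBijective ψ ⟨LinearMap.ker_eq_bot.mp hK0, hsurj⟩)

end Groth.Agent.H70.FibProj
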