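import Mathlib
import Groth.Agent.H70.FibProj.LocalFree
import Groth.Agent.H1.FlatLocusLoc

/-!
# A finitely presented module, flat over the base, is flat over the algebra iff its fibres are
projective (EGA IV 11.3.? / S4970)
-/

set_option autoImplicit false
set_option linter.style.haveILetI false
universe u
open TensorProduct Function

namespace Groth.Agent.H70.FibProj

variable (A B M : Type u) [CommRing A] [CommRing B] [Algebra A B] [AddCommGroup M] [Module B M]
  [Module A M] [IsScalarTower A B M] [Module.FinitePresentation B M]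

/-- local freeness from projectivity of the fibre module -/
theorem free_localizedModule_of_fibre_projective [Module.Flat A M] (q : Ideal B) [q.IsPrime]
    (hproj : Module.Projective (B ⊗[A] (q.comap (algebraMap A B)).ResidueField)
      ((B ⊗[A] (q.comap (algebraMap A B)).ResidueField) ⊗[B] M)) :
    Module.Free (Localization.AtPrime q) (LocalizedModule q.primeCompl M) := by
  set p : Ideal A := q.comap (algebraMap A B) with hp
  let B' := Localization.AtPrime q
  let N := LocalizedModule q.primeCompl M
  let I : Ideal B' := p.map (algebraMap A B')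
  have hI : I ≤ IsLocalRing.maximalIdeal B' := by
    rw [Ideal.map_le_iff_le_comap]
    intro a ha
    rw [Ideal.mem_comap, IsScalarTower.algebraMap_apply A B B']
    exact (IsLocalization.AtPrime.to_map_mem_maximal_iff B' q _).mpr ha
  haveI : Module.Flat A N :=
    Groth.Agent.H1.FlatLocus.flat_of_isLocalizedModule_algebra (R := A) q.primeCompl
      (LocalizedModule.mkLinearMap q.primeCompl M)
  let D := B' ⧸ I
  haveI : Nontrivial D := Ideal.Quotient.nontrivial_iff.mpr
    (fun h => (IsLocalRing.maximalIdeal.isMaximal B').ne_top (top_le_iff.mp (h ▸ hI)))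
  haveI : IsLocalRing D :=
    IsLocalRing.of_surjective' (Ideal.Quotient.mk I) Ideal.Quotient.mk_surjective
  -- the ring map `B ⊗ κ(p) → D`
  let F := B ⊗[A] p.ResidueField
  have hf₁ : p ≤ RingHom.ker (Algebra.ofId A D : A →ₐ[A] D) := by
    intro a ha
    rw [RingHom.mem_ker]
    change algebraMap A D a = 0
    rw [IsScalarTower.algebraMap_apply A B' D]
    exact Ideal.Quotient.eq_zero_iff_mem.mpr (Ideal.mem_map_of_mem _ ha)
  have hf₂ : p.primeCompl ≤ (IsUnit.submonoid D).comap (Algebra.ofId A D : A →ₐ[A] D) := by
    intro a ha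
    change IsUnit (algebraMap A D a)
    rw [IsScalarTower.algebraMap_apply A B' D]
    refine IsUnit.map (algebraMap B' D) ?_
    rw [IsScalarTower.algebraMap_apply A B B']
    exact IsLocalization.map_units B' (⟨algebraMap A B a, ha⟩ : q.primeCompl)
  let g : p.ResidueField →ₐ[A] D := Ideal.ResidueField.liftₐ p (Algebra.ofId A D) hf₁ hf₂
  let θ : F →ₐ[A] D := Algebra.TensorProduct.lift (IsScalarTower.toAlgHom A B D) g
    (fun _ _ => mul_comm _ _)
  letI : Algebra F D := θ.toRingHom.toAlgebra
  haveI : IsScalarTower B F D := IsScalarTower.of_algebraMap_eq fun b => by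
    change algebraMap B D b = θ (b ⊗ₜ 1)
    change _ = (Algebra.TensorProduct.lift (IsScalarTower.toAlgHom A B D) g _) (b ⊗ₜ[A] 1)
    rw [Algebra.TensorProduct.lift_tmul, map_one, mul_one]
    rfl
  -- transfer projectivity
  haveI := hproj
  have h1 : Module.Projective D (D ⊗[F] (F ⊗[B] M)) := inferInstance
  let e1 : D ⊗[F] (F ⊗[B] M) ≃ₗ[D] D ⊗[B] M :=
    TensorProduct.AlgebraTensorModule.cancelBaseChange B F D D M
  let e2 : D ⊗[B'] (B' ⊗[B] M) ≃ₗ[D] D ⊗[B] M :=
    TensorProduct.AlgebraTensorModule.cancelBaseChange B B' D D M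
  let e3 : N ≃ₗ[B'] B' ⊗[B] M := LocalizedModule.equivTensorProduct q.primeCompl M
  let e4 : D ⊗[B'] N ≃ₗ[D] D ⊗[B'] (B' ⊗[B] M) :=
    TensorProduct.AlgebraTensorModule.congr (LinearEquiv.refl D D) e3
  have h2 : Module.Projective D (D ⊗[B'] N) :=
    Module.Projective.of_equiv (e1 ≪≫ₗ e2.symm ≪≫ₗ e4.symm)
  haveI : Module.Free D (D ⊗[B'] N) := Module.free_of_flat_of_isLocalRing
  exact free_of_flat_of_free_quotient_local (A := A) (B' := B') (N := N) p hI

/-- **Flat iff fibrewise projective** for a finitely presented module which is flat over the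
base. -/
theorem flat_iff_fibre_projective [Module.Flat A M] :
    Module.Flat B M ↔ ∀ (p : Ideal A) [p.IsPrime],
      Module.Projective (B ⊗[A] p.ResidueField) ((B ⊗[A] p.ResidueField) ⊗[B] M) := by
  constructor
  · intro h p _
    haveI : Module.Projective B M := Module.Flat.projective_of_finitePresentation
    infer_instance
  · intro h
    apply Module.flat_of_localized_maximal
    intro q hq
    haveI : q.IsPrime := hq.isPrime
    have hfree := free_localizedModule_of_fibre_projective A B M q
      (h (q.comap (algebraMap A B)))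
    haveI : Module.Flat (Localization.AtPrime q) (LocalizedModule q.primeCompl M) := inferInstance
    exact Module.Flat.trans B (Localization.AtPrime q) (LocalizedModule q.primeCompl M)

end Groth.Agent.H70.FibProj
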